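import Cfsg.Agent.HZ.L.Bas
import Cfsg.Agent.HZ.Gen.Cur

/-!
# HZ/L: the values at `2`-singular elements (helper71)
-/

set_option autoImplicit false
set_option linter.unusedSectionVars false

namespace Cfsg.Agent.HZ.L.Tau

open Cfsg Cfsg.Agent.DL Cfsg.Agent.DL.PP Cfsg.Agent.DL.Uni Cfsg.Agent.DL.Asm Cfsg.Agent.Nodes.Reps Matrix
  Cfsg.Agent.KZ.Lie Cfsg.Agent.HZ.Gen Cfsg.Agent.ODD.Red Cfsg.Agent.Characters.Core Cfsg.Agent.Nodes.BNOf
  Cfsg.Agent.Blocks.PPart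

variable {p : ℕ} [Fact p.Prime] {k : Type} [Field k] [CharP k p] [IsAlgClosed k] {Y : Type} [Group Y] {N : Type}
  [Fintype N] [DecidableEq N] {ρ : Y →* GL N k} {F : MulAut Y} {G : Subgroup Y} {D : Datum p ρ F G}
  {y : Y} {w : D.W} {ξ : kˣ} {x : D.R → ℤ}

theorem pow_coch (hw : D.Rp w (y⁻¹ * F y)) (v : D.R → ℤ) (ζ : kˣ) (d : ℕ) :
    (F ^ d) (y * D.τ (coch v ζ) * y⁻¹) = y * D.τ (coch ((D.Wm w * D.Mx) ^ d *ᵥ v) ζ) * y⁻¹ := by
  induction d with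
  | zero => rw [pow_zero, pow_zero, one_mulVec]; rfl
  | succ d ih => rw [pow_succ', MulAut.mul_apply, ih, F_cj_τ hw, mon_coch, mulVec_mulVec, ← pow_succ']

theorem nrm_coch (hw : D.Rp w (y⁻¹ * F y)) (v : D.R → ℤ) (ζ : kˣ) (d : ℕ) :
    Mk.nrm F d (y * D.τ (coch v ζ) * y⁻¹) =
      y * D.τ (coch ((∑ i ∈ Finset.range d, (D.Wm w * D.Mx) ^ i) *ᵥ v) ζ) * y⁻¹ := by
  induction d with
  | zero =>
    rw [Mk.nrm_zero, Finset.sum_range_zero, zero_mulVec, show coch (0 : D.R → ℤ) ζ = 1 from funext fun _ => zpow_zero _,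
      map_one, mul_one, mul_inv_cancel]
  | succ d ih => rw [Mk.nrm_succ, ih, pow_coch hw, Finset.sum_range_succ, add_mulVec, coch_add, map_mul, conj_mul]

theorem fix_dvd (hw : D.Rp w (y⁻¹ * F y)) (h : F (y * D.τ (coch x ξ) * y⁻¹) = y * D.τ (coch x ξ) * y⁻¹) (i : D.R) :
    (orderOf ξ : ℤ) ∣ ((D.Wm w * D.Mx - 1) *ᵥ x) i := by
  rw [F_cj_τ hw, mon_coch] at h
  have := congrFun (D.τ_inj (mul_left_cancel (mul_right_cancel h))) i
  rw [coch_apply, coch_apply] at this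
  rw [orderOf_dvd_iff_zpow_eq_one, sub_mulVec, one_mulVec, Pi.sub_apply, _root_.zpow_sub, this, mul_inv_cancel]

/-- coordinates of the `2`-elements -/
theorem exists_coord (hp : p ≠ 2) (f : Fr D) : ∃ e m : ℕ, p ^ f.e - 1 = 2 ^ e * m ∧ orderOf (f.ζ ^ m) = 2 ^ e ∧
    ∀ u ∈ GF F G, (∃ i, orderOf u = 2 ^ i) → ∃ y ∈ G, ∃ w x, D.Rp w (y⁻¹ * F y) ∧ u = y * D.τ (coch x (f.ζ ^ m)) * y⁻¹ := by
  have h0 : p ^ f.e - 1 ≠ 0 := Nat.sub_ne_zero_of_lt (Nat.one_lt_pow f.L.e_pos.ne' (Fact.out : p.Prime).one_lt)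
  obtain ⟨e, m, hm, h⟩ := Nat.exists_eq_two_pow_mul_odd h0
  refine ⟨e, m, h, (f.hζ.pow (Nat.pos_of_ne_zero h0) (h.trans (mul_comm _ _))).eq_orderOf.symm, fun u hu ⟨i, hi⟩ => ?_⟩
  obtain ⟨T, hT, h1⟩ := (sys' D).toral hu fun e => hp ((Nat.prime_dvd_prime_iff_eq Fact.out Nat.prime_two).1
    ((Fact.out : p.Prime).dvd_of_dvd_pow (hi ▸ e)))
  obtain ⟨y, hy, w, hw, rfl⟩ := exists_y hT
  obtain ⟨v, rfl⟩ := exists_coch f.L f.hζ hy hw h1 (fix_le_fix_pow _ hu.2)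
  have h2 := pow_orderOf_eq_one (y * D.τ (coch v f.ζ) * y⁻¹)
  rw [hi, conj_pow, conj_eq_one_iff, ← map_pow, ← map_one D.τ] at h2
  have h3 : ∀ j, ∃ a, v j = m * a := fun j => by
    have h4 := congrFun (D.τ_inj h2) j
    rw [Pi.pow_apply, coch_apply, Pi.one_apply, ← zpow_natCast, ← _root_.zpow_mul, f.hζ.zpow_eq_one_iff_dvd, h] at h4
    exact (Nat.isCoprime_iff_coprime.2 ((Nat.coprime_two_right.2 hm).pow_right i)).dvd_of_dvd_mul_right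
      ((Int.natCast_dvd_natCast.2 (Dvd.intro_left _ rfl)).trans h4)
  choose x hx using h3
  refine ⟨y, hy, w, x, hw, ?_⟩
  rw [show v = (m : ℤ) • x from funext hx, coch_zsmul, zpow_natCast]

variable [Fintype ↥(GF F G)] {f : Fr D} {χ : ↥(GF F G) → ℂ} {c : Lbl D}

/-- a central element in the kernel -/
theorem ker (hχ : IsIrrCharacter _ χ) (h : Has f χ w c) {e m : ℕ} (h1 : p ^ f.e - 1 = 2 ^ e * m)
    (h2 : orderOf (f.ζ ^ m) = 2 ^ e) {z : GF F G} (hz : (z : Y) = D.τ (coch x (f.ζ ^ m))) (hc : ∀ y ∈ G, y * z = z * y)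
    (h4 : ∀ v, (D.Wm w * D.Mx - 1) *ᵥ x = ((2 : ℤ) ^ e) • v → chr v c = 1) (g : GF F G) : χ (z * g) = χ g := by
  have h5 : (z : Y) = yw D w * D.τ (coch x (f.ζ ^ m)) * (yw D w)⁻¹ := by
    rw [← hz, hc _ (yw_mem D w), mul_inv_cancel_right]
  have h6 := fix_dvd (yw_rp D w) (h5 ▸ z.2.2)
  rw [h2] at h6
  choose v hv using h6
  have h7 : (D.Wm w * D.Mx - 1) *ᵥ x = ((2 : ℤ) ^ e) • v := funext fun i => by rw [hv]; simp
  have h8 : (∑ i ∈ Finset.range f.d, (D.Wm w * D.Mx) ^ i) *ᵥ v = (m : ℤ) • x :=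
    smul_right_injective _ (pow_ne_zero e (two_ne_zero (α := ℤ))) (by
      show ((2 : ℤ) ^ e) • _ = ((2 : ℤ) ^ e) • _
      have h9 : ((p : ℤ) ^ f.e - 1) = 2 ^ e * m := by
        have := Nat.one_le_pow f.e p (Fact.out : p.Prime).pos
        exact_mod_cast (Nat.cast_sub (R := ℤ) this).symm.trans (congrArg Nat.cast h1)
      rw [← mulVec_smul, ← h7, mulVec_mulVec, geom_sum_mul, f.L.pow, smul_smul, ← h9, sub_mulVec, smul_mulVec, one_mulVec,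
        sub_smul, one_smul])
  have h9 : th f w c z = 1 := by
    rw [h5, ← zpow_natCast, ← coch_zsmul, ← h8, ← nrm_coch (yw_rp D w), (th_spec f h.fx).2 v, h4 v h7, Units.val_one]
  obtain ⟨ω, hω⟩ := exists_omega hχ (Subgroup.zpowers z).subtype fun ⟨_, n, e⟩ =>
    e ▸ Subgroup.zpow_mem _ (Subgroup.mem_center_iff.2 fun g => Subtype.ext (hc g g.2.1)) n
  have h10 := scalar_of_inner (z := z) (c := 1) (hω ⟨z, Subgroup.mem_zpowers z⟩) (fun g => by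
    rw [RW_apply, RW_apply, Subgroup.coe_mul, R_central (T := Tw D w) ⟨central_mem z.2.1 hc (yw_mem D w), z.2⟩ hc
      (th_spec f h.fx).1 g.2.1, h9]) h
  rw [map_one, mul_one] at h10
  exact (hω ⟨z, Subgroup.mem_zpowers z⟩ g).trans (by rw [h10, one_mul])

/-- the connected centraliser of the `2`-part lies in the subgroup -/
theorem val_rs {r : ℕ} (hr : Hu D r) (hχ : IsIrrCharacter _ χ) (hR : RatR r χ) {P : Subgroup ↥(GF F G)} {s : Sb D}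
    (hs : s.For r P) {g u : GF F G} (hu : IsPPart 2 g u) (hy : y ∈ G) {t : Y} (ht : t ∈ D.T) (e : (u : Y) = y * t * y⁻¹)
    (hK : cj y (D.cen {t}) ≤ s.K) : ∃ g' : GF F s.K, s.rs r P χ g' = χ g := by
  have := Fact.mk hr.prime
  have h1 : u ∈ Subgroup.centralizer (P : Set (GF F G)) := (mem_C hs.cen).1 (hK (e ▸ conj_mem_cj.2 (D.T_le_cen _ ht)))
  have h0 : t = y⁻¹ * u * y := by rw [e]; group
  have h2 : ∀ a : GF F G, Commute a u → ¬ 2 ∣ orderOf a → a ∈ Subgroup.centralizer (P : Set (GF F G)) := fun a ha h =>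
    (mem_C hs.cen).1 (hK (mem_cj.2 (TO.X.Cn.ppr' D Nat.prime_two (Set.singleton_subset_iff.2 ht) (by
      rintro _ rfl
      obtain ⟨-, -, -, ⟨i, hi⟩, -⟩ := hu
      refine ⟨i, ?_⟩
      rw [h0, ← inv_inv y, inv_inv y⁻¹, conj_pow, ← hi, ← Subgroup.coe_pow, pow_orderOf_eq_one]
      simp) (mul_mem (mul_mem (inv_mem hy) a.2.1) hy) (Subgroup.mem_centralizer_singleton_iff.2 (by
        have := congrArg Subtype.val ha.eq
        rw [Subgroup.coe_mul, Subgroup.coe_mul] at this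
        rw [h0, show y⁻¹ * a * y * (y⁻¹ * u * y) = y⁻¹ * (a * u) * y by group, this]
        group)) h (by
      rw [← inv_inv y, inv_inv y⁻¹, conj_pow, ← Subgroup.coe_pow, pow_orderOf_eq_one]
      simp))))
  have h3 : g ∈ Subgroup.centralizer (P : Set (GF F G)) := by
    obtain ⟨a, rfl, h4, -, h5⟩ := hu
    exact mul_mem h1 (h2 a h4.symm h5)
  have h4 := two_le_sz D
  have h5 := hr.lt (m := sz D ^ 10) le_rfl (by norm_num)
  have h6 : sz D ^ 4 * 1 + 1 ≤ sz D ^ 5 := by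
    have := Nat.one_le_pow 4 (sz D) (by omega)
    rw [pow_succ _ 4]
    nlinarith
  refine ⟨⟨g, (mem_C hs.cen).2 h3, g.2.2⟩, hr.big_GF.curtis' hs.grp (sm_irr hχ hR) (hr.bd_nb (i := 0) le_rfl (by norm_num))
    (fun e => ?_) hu h1 h2 (pc_le_sz D) ?_⟩
  · have := hr.lt (m := 1) (i := 0) le_rfl (by norm_num)
    omega
  · refine ((Nat.pow_le_pow_left h6 2).trans ?_).trans_lt (Nat.lt_of_succ_lt h5)
    rw [← pow_mul]

/-- **[TAU]** -/
theorem boxTau (hS : BoxSb D) : BoxTau D := by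
  intro hp j B hB f χ hχ hE w c hc hL τ hτ hI H g
  obtain ⟨e, m, h1, h2, h3⟩ := exists_coord hp f
  obtain ⟨u, hu⟩ := exists_isPPart 2 g
  obtain ⟨y, hy, w', x, hw, hx⟩ := h3 u u.2 (by
    obtain ⟨-, -, -, ⟨i, hi⟩, -⟩ := hu
    exact ⟨i, (Subgroup.orderOf_coe u).trans hi⟩)
  have h4 := fix_dvd hw (hx ▸ u.2.2)
  rw [h2, Nat.cast_pow, Nat.cast_two] at h4
  by_cases h5 : ∀ lam, (∀ a ∈ rts D, (2 : ℤ) ^ e ∣ a.1 ⬝ᵥ x → a.1 ⬝ᵥ lam = 0) → Perp (rts D) lam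
  · obtain ⟨h6, h7⟩ := hL _ (Wm_mem w') e x h4 h5
    have h8 := τ_central (D := D) (a := coch ((4 : ℤ) • x) (f.ζ ^ m)) fun b hb => by
      rw [chr_coch, ← orderOf_dvd_iff_zpow_eq_one, h2, Nat.cast_pow, Nat.cast_two]
      exact (h6 _ (rt_mem hb)).trans (dvd_of_eq (dotProduct_smul (4 : ℤ) (D.wt b) x).symm)
    have h9 : ((u ^ 4 : GF F G) : Y) = D.τ (coch ((4 : ℤ) • x) (f.ζ ^ m)) := by
      rw [Subgroup.coe_pow, hx, conj_pow, ← map_pow, ← map_pow, coch_zsmul, ← zpow_natCast, Nat.cast_ofNat, ← coch_zsmul,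
        h8 y hy, mul_inv_cancel_right, coch_zsmul]
    have h10 : ∀ (n : ℕ) g, χ ((u ^ 4) ^ n * g) = χ g := fun n => by
      induction n with
      | zero => exact fun g => by rw [pow_zero, one_mul]
      | succ n ih => exact fun g => by rw [pow_succ, mul_assoc, ih, ker hχ hc h1 h2 h9 (h9 ▸ h8) h7]
    obtain ⟨n, n1, n2, n3⟩ := exists_exp hτ hI (Nat.card_pos (α := GF F G)).ne'
    obtain ⟨a, rfl, a1, -, a2⟩ := hu
    rw [Characters.GaloisBasic.map_apply_card τ n3 (isIrr_isCharacter hχ), a1.mul_pow,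
      pow_eq_pow_iff_modEq.2 (n2 _ (Nat.odd_iff.2 (Nat.two_dvd_ne_zero.1 a2)) (orderOf_dvd_natCard a)), pow_one,
      ← Nat.div_add_mod n 4, n1, pow_succ, pow_mul, mul_assoc, h10]
  · push Not at h5
    obtain ⟨lam, h5, h6⟩ := h5
    obtain ⟨μ, y₀, mu, k1, k2, k3, k4, k5⟩ := hB.exists_eig (w := w') (Ψ := {a | a ∈ rts D ∧ (2 : ℤ) ^ e ∣ a.1 ⬝ᵥ x})
      ((hB.nm_iff fun _ h => h.1).2 fun a ha h => ⟨rt_mem ((D.g_root a ha).act w'), by
        have k1 := congrArg (· ⬝ᵥ x) (wt_gw w' ha)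
        have k2 : (2 : ℤ) ^ e ∣ D.wt (D.act w' (D.g a)) ⬝ᵥ ((D.Wm w' * D.Mx - 1) *ᵥ x) :=
          Finset.dvd_sum fun i _ => (h4 i).mul_left _
        simp only [← dotProduct_mulVec, smul_dotProduct, smul_eq_mul] at k1
        rw [sub_mulVec, one_mulVec, dotProduct_sub, k1] at k2
        exact (dvd_sub_right (h.2.mul_left _)).1 k2⟩) (fun a h => ⟨h.1, h5 a h.1 h.2⟩) (lev_ne.2 h6)
    obtain ⟨r, hr, r1, r2⟩ := hE w' μ k2
    obtain ⟨z, z1, z2⟩ := r1 w' y₀ k1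
    obtain ⟨P, s, -, s1, s2, -, s3⟩ := (hS hB.qs).vec r hr.prime hr.ne hr.not_dvd w' z mu z1 fun a ha =>
      (z2 a ha).trans (k3 a ha).symm
    obtain ⟨a, ha, s4⟩ := s3 y hy hw
    have s5 : D.Sz {D.τ (coch x (f.ζ ^ m))} ⊆ {a | D.Rt a ∧ D.wt a ⬝ᵥ mu = 0} := fun b hb =>
      ⟨hb.1, (k4 (a := (D.wt b, D.cor b)) ⟨rt_mem hb.1, by
        have := (TO.X.Cn.χ_exp D b x _).1 (hb.2 _ rfl)
        rwa [h2, Nat.cast_pow, Nat.cast_two] at this⟩).2⟩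
    obtain ⟨g', hg⟩ := val_rs hr hχ r2 s1 (isPPart_conj hu (⟨a, ha⟩ : GF F G)) (mul_mem ha.1 hy) (D.τ_mem (coch x (f.ζ ^ m)))
      (by rw [Subgroup.coe_mul, Subgroup.coe_mul, Subgroup.coe_inv, hx]; group)
      (s4 ▸ Subgroup.map_mono (sup_le_sup_left (RGD.Sup_mono s5) _))
    have := H r P s mu hr r2 s1 s2 k5 g'
    rwa [hg, isIrr_isClassFunction hχ] at this

end Cfsg.Agent.HZ.L.Tau
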